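import Cfsg.Agent.Lib.Classical.WittExtension
import Cfsg.Agent.Lib.Classical.UnitaryOrder
import Cfsg.Agent.Lib.Classical.UnitaryStab
import Cfsg.Agent.Lib.Classical.IsoProd
import Cfsg.Prelude.Def_ClassicalGeometry

/-!
Totally isotropic frames of a Hermitian space and their number.
-/

set_option autoImplicit false
set_option linter.unusedSectionVars false

namespace CfsgLib.SUParabolic

open Matrix Cfsg CfsgLib.Classical.Herm
open CfsgLib.ClassicalAut (Unitary.Conj)

variable {F : Type*} [Field F] [Finite F] {q : ℕ} (K : Unitary.Conj F q) {n : ℕ}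

local notation "H" => hermForm n F q
local notation "V" => (Fin n → F)

/-- Independent lists of pairwise orthogonal isotropic vectors. -/
def Frame (n : ℕ) (F : Type*) [Field F] (q k : ℕ) : Type _ :=
  {f : Fin k → Fin n → F // LinearIndependent F f ∧ ∀ i j, hermForm n F q (f i) (f j) = 0}

instance {k : ℕ} : Finite (Frame n F q k) := Subtype.finite

/-- The action on vectors. -/
def gap (g : GU n F q) (v : V) : V := ((g : GL (Fin n) F) : Matrix (Fin n) (Fin n) F) *ᵥ v

theorem gap_mul (g h : GU n F q) (v : V) : gap (g * h) v = gap g (gap h v) :=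
  (mulVec_mulVec _ _ _).symm

theorem gap_one (v : V) : gap (1 : GU n F q) v = v := one_mulVec _

theorem gap_inv (g : GU n F q) (v : V) : gap g⁻¹ (gap g v) = v := by
  rw [← gap_mul, inv_mul_cancel, gap_one]

theorem gap_inv' (g : GU n F q) (v : V) : gap g (gap g⁻¹ v) = v := by
  rw [← gap_mul, mul_inv_cancel, gap_one]

theorem gap_h (g : GU n F q) (u v : V) : H (gap g u) (gap g v) = H u v := g.2 u v

theorem gap_injective (g : GU n F q) : Function.Injective (gap g) :=
  Function.LeftInverse.injective (gap_inv g)

/-- The action as a linear map. -/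
def gapL (g : GU n F q) : V →ₗ[F] V := Matrix.mulVecLin ((g : GL (Fin n) F) : Matrix (Fin n) (Fin n) F)

theorem gapL_apply (g : GU n F q) (v : V) : gapL g v = gap g v := rfl

/-- An isometry of the form gives an element of the unitary group. -/
theorem exists_GU (e : V →ₗ[F] V) (he : ∀ u v, H (e u) (e v) = H u v) (hinj : Function.Injective e) :
    ∃ g : GU n F q, ∀ v, gap g v = e v := by
  have hu : IsUnit (LinearMap.toMatrix' e) := by
    refine Matrix.mulVec_injective_iff_isUnit.1 fun x y h => hinj ?_
    simpa only [LinearMap.toMatrix'_mulVec] using h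
  refine ⟨⟨hu.unit, fun u v => ?_⟩, fun v => LinearMap.toMatrix'_mulVec e v⟩
  show H (LinearMap.toMatrix' e *ᵥ u) (LinearMap.toMatrix' e *ᵥ v) = H u v
  rw [LinearMap.toMatrix'_mulVec, LinearMap.toMatrix'_mulVec, he]

include K in
theorem h_span_zero {k : ℕ} (f : Frame n F q k) {x y : V}
    (hx : x ∈ Submodule.span F (Set.range f.1)) (hy : y ∈ Submodule.span F (Set.range f.1)) :
    H x y = 0 := by
  induction hx using Submodule.span_induction with
  | mem a ha =>
    obtain ⟨i, rfl⟩ := ha
    induction hy using Submodule.span_induction with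
    | mem b hb => obtain ⟨j, rfl⟩ := hb; exact f.2.2 i j
    | zero => exact h_zero_right K _
    | add a b _ _ ha hb => rw [h_add_right K, ha, hb, add_zero]
    | smul c a _ ha => rw [h_smul_right K, ha, mul_zero]
  | zero => exact h_zero_left K _
  | add a b _ _ ha hb => rw [h_add_left K, ha, hb, add_zero]
  | smul c a _ ha => rw [h_smul_left K, ha, mul_zero]

include K in
theorem exists_move_frame {k : ℕ} (f f' : Frame n F q k) :
    ∃ g : GU n F q, ∀ i, gap g (f.1 i) = f'.1 i := by
  let φ := ((Module.Basis.span f.2.1).equiv (Module.Basis.span f'.2.1) (Equiv.refl _))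
  have hσ : K.bar.toRingHom ≠ RingHom.id F := fun h =>
    K.bar_ne (RingEquiv.ext fun x => DFunLike.congr_fun h x)
  obtain ⟨g, hg, hgX⟩ := CfsgLib.Classical.Witt.witt_hermitian K.bar.toRingHom hσ K.bar_bar
    (CfsgLib.Classical.IsoProd.hermSesq K n)
    (fun u v => CfsgLib.Classical.IsoProd.hermSesq_swap K n v u)
    (fun v h => h_nondeg K fun y => h_eq_zero_symm K (h y)) _ _ φ
    (fun x x' => by
      rw [CfsgLib.Classical.IsoProd.hermSesq_apply, CfsgLib.Classical.IsoProd.hermSesq_apply,
        h_span_zero K f' (φ x').2 (φ x).2, h_span_zero K f x'.2 x.2])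
  obtain ⟨g', hg'⟩ := exists_GU g.toLinearMap
    (fun u v => by
      have := hg v u
      rwa [CfsgLib.Classical.IsoProd.hermSesq_apply,
        CfsgLib.Classical.IsoProd.hermSesq_apply] at this) g.injective
  refine ⟨g', fun i => ?_⟩
  rw [hg', LinearEquiv.coe_coe]
  have h1 := hgX (Module.Basis.span f.2.1 i)
  have h2 : φ (Module.Basis.span f.2.1 i) = Module.Basis.span f'.2.1 i := Module.Basis.equiv_apply _ _ _ _
  rw [h2, Module.Basis.span_apply, Module.Basis.span_apply] at h1
  exact h1

/-- The translate of a frame. -/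
def moveFrame {k : ℕ} (g : GU n F q) (f : Frame n F q k) : Frame n F q k :=
  ⟨fun i => gap g (f.1 i), f.2.1.map' (gapL g) (LinearMap.ker_eq_bot.2 (gap_injective g)),
    fun i j => by rw [gap_h]; exact f.2.2 i j⟩

instance {k : ℕ} : MulAction (GU n F q) (Frame n F q k) where
  smul := moveFrame
  one_smul f := Subtype.ext (funext fun i => gap_one (f.1 i))
  mul_smul g h f := Subtype.ext (funext fun i => gap_mul g h (f.1 i))

theorem smul_apply {k : ℕ} (g : GU n F q) (f : Frame n F q k) (i : Fin k) :
    (g • f).1 i = gap g (f.1 i) := rfl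

include K in
theorem isPretransitive (k : ℕ) : MulAction.IsPretransitive (GU n F q) (Frame n F q k) :=
  ⟨fun f f' => by
    obtain ⟨g, hg⟩ := exists_move_frame K f f'
    exact ⟨g, Subtype.ext (funext hg)⟩⟩

include K in
theorem card_frame_mul {k : ℕ} (f : Frame n F q k) :
    Nat.card (Frame n F q k) * Nat.card (MulAction.stabilizer (GU n F q) f) =
      Nat.card (GU n F q) := by
  have := isPretransitive K (n := n) k
  rw [← MulAction.index_stabilizer_of_transitive (GU n F q) f, mul_comm, Subgroup.card_mul_index]

/-- The vectors extending a frame. -/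
def Ext {k : ℕ} (f : Frame n F q k) : Set V :=
  {v | v ∉ Submodule.span F (Set.range f.1) ∧ H v v = 0 ∧ ∀ i, H v (f.1 i) = 0}

theorem ext_move {k : ℕ} (g : GU n F q) (f : Frame n F q k) :
    Ext (g • f) = gap g '' Ext f := by
  ext v
  have hspan : ∀ v, gap g v ∈ Submodule.span F (Set.range (g • f).1) ↔
      v ∈ Submodule.span F (Set.range f.1) := fun v => by
    rw [show Set.range (g • f).1 = gapL g '' Set.range f.1 from Set.range_comp (gapL g) f.1,
      ← gapL_apply, ← Submodule.map_span, Submodule.mem_map]
    exact ⟨fun ⟨w, hw, e⟩ => gap_injective g e ▸ hw, fun h => ⟨v, h, rfl⟩⟩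
  constructor
  · rintro ⟨h1, h2, h3⟩
    refine ⟨gap g⁻¹ v, ⟨?_, ?_, fun i => ?_⟩, gap_inv' g v⟩
    · rw [← hspan, gap_inv']; exact h1
    · rw [gap_h]; exact h2
    · rw [← gap_h g, gap_inv']; exact h3 i
  · rintro ⟨w, ⟨h1, h2, h3⟩, rfl⟩
    exact ⟨fun h => h1 ((hspan w).1 h), by rw [gap_h]; exact h2,
      fun i => by rw [smul_apply, gap_h]; exact h3 i⟩

include K in
theorem card_frame_succ {k : ℕ} (f₀ : Frame n F q k) :
    Nat.card (Frame n F q (k + 1)) = Nat.card (Frame n F q k) * Nat.card (Ext f₀) := by
  classical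
  cases nonempty_fintype F
  have hall : ∀ f : Frame n F q k, Nat.card (Ext f) = Nat.card (Ext f₀) := fun f => by
    obtain ⟨g, hg⟩ := exists_move_frame K f₀ f
    obtain rfl : g • f₀ = f := Subtype.ext (funext hg)
    rw [ext_move, Nat.card_image_of_injective (gap_injective g)]
  let e : Frame n F q (k + 1) ≃ Σ f : Frame n F q k, ↥(Ext f) :=
    { toFun := fun h => ⟨⟨Fin.init h.1, h.2.1.comp _ (Fin.castSucc_injective k),
          fun i j => h.2.2 _ _⟩, h.1 (Fin.last k), by
            refine ⟨?_, h.2.2 _ _, fun i => h.2.2 _ _⟩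
            have hli := h.2.1
            rw [← Fin.snoc_init_self h.1, linearIndependent_finSnoc] at hli
            exact hli.2⟩
      invFun := fun p => ⟨Fin.snoc p.1.1 p.2.1,
        linearIndependent_finSnoc.2 ⟨p.1.2.1, p.2.2.1⟩, fun i j => by
          induction i using Fin.lastCases with
          | last =>
            induction j using Fin.lastCases with
            | last => simpa using p.2.2.2.1
            | cast j => simpa using p.2.2.2.2 j
          | cast i =>
            induction j using Fin.lastCases with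
            | last => simpa using h_eq_zero_symm K (p.2.2.2.2 i)
            | cast j => simpa using p.1.2.2 i j⟩
      left_inv := fun h => Subtype.ext (Fin.snoc_init_self h.1)
      right_inv := fun p =>
        Sigma.subtype_ext (p := fun (f : Frame n F q k) (v : V) => v ∈ Ext f)
          (Subtype.ext (by simp)) (by simp) }
  have : Fintype (Frame n F q k) := Fintype.ofFinite _
  rw [Nat.card_congr e, Nat.card_sigma, Finset.sum_congr rfl fun f _ => hall f, Finset.sum_const,
    smul_eq_mul, Nat.card_eq_fintype_card (α := Frame n F q k)]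
  rfl

end CfsgLib.SUParabolic
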