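import Cfsg.Agent.Lib.SUParabolic.Frames

/-!
The number of totally isotropic frames and the order of the stabiliser of a totally isotropic
subspace.
-/

set_option autoImplicit false
set_option linter.unusedSectionVars false

namespace CfsgLib.SUParabolic

open Matrix Cfsg CfsgLib.Classical.Herm
open CfsgLib.ClassicalAut (Unitary.Conj Unitary.normOne Unitary.det1)
open CfsgLib.ClassicalAut

variable {F : Type*} [Field F] [Finite F] {q : ℕ} (K : Unitary.Conj F q) {n : ℕ}

/-- The order of the general unitary group, as a formula. -/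
def guOrder (q n : ℕ) : ℕ :=
  q ^ (n * (n - 1) / 2) * ∏ i ∈ Finset.range n, (if Even i then q ^ (i + 1) + 1 else q ^ (i + 1) - 1)

include K in
theorem guOrder_add_two (j : ℕ) :
    guOrder q (j + 2) = q ^ (2 * j + 1) * (count K (j + 2) 0 - 1) * guOrder q j := by
  rw [guOrder, guOrder, count_zero_nat K, Nat.add_sub_cancel, Finset.prod_range_succ,
    Finset.prod_range_succ]
  have htri : (j + 2) * (j + 2 - 1) / 2 = j * (j - 1) / 2 + (2 * j + 1) := by
    rw [← Nat.choose_two_right, ← Nat.choose_two_right]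
    simp [Nat.choose_succ_succ]
    ring
  rw [htri, pow_add]
  rcases Nat.even_or_odd j with he | ho
  · have h1 : ¬ Even (j + 1) := Nat.not_even_iff_odd.2 he.add_one
    have h2 : Even (j + 2) := he.add even_two
    rw [if_pos he, if_neg h1, if_pos h2, show j + 2 - 1 = j + 1 by omega]
    ring
  · have h1 : Even (j + 1) := ho.add_one
    have h2 : ¬ Even (j + 2) := Nat.not_even_iff_odd.2 (ho.add_even even_two)
    rw [if_neg (Nat.not_even_iff_odd.2 ho), if_pos h1, if_neg h2,
      show j + 2 - 1 = j + 1 by omega]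
    ring

include K in
theorem exists_norm_neg_one : ∃ θ : F, θ * K.bar θ = -1 :=
  K.exists_norm (-1) (by rw [map_neg, map_one])

section std

variable (θ : F) (hθ : θ * K.bar θ = -1)

local notation "H'" k "," j => hermForm (k + k + j) F q

/-- The standard totally isotropic vectors. -/
def stdVec (k j : ℕ) (i : Fin k) : Fin (k + k + j) → F :=
  Fin.append (Fin.append (Pi.single i 1) (Pi.single i θ)) 0

include K in
theorem herm_append {k j : ℕ} (a c a' c' : Fin k → F) (w w' : Fin j → F) :
    hermForm (k + k + j) F q (Fin.append (Fin.append a c) w) (Fin.append (Fin.append a' c') w') =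
      (∑ i, a i * K.bar (a' i)) + (∑ i, c i * K.bar (c' i)) + ∑ i, w i * K.bar (w' i) := by
  rw [Unitary.herm_apply K, Fin.sum_univ_add, Fin.sum_univ_add]
  simp only [Fin.append_left, Fin.append_right]

include K hθ in
theorem std_orth {k j : ℕ} (i l : Fin k) :
    hermForm (k + k + j) F q (stdVec θ k j i) (stdVec θ k j l) = 0 := by
  rw [stdVec, stdVec, herm_append K]
  simp only [Pi.zero_apply, zero_mul, Finset.sum_const_zero, add_zero]
  by_cases h : i = l
  · subst h
    rw [Finset.sum_eq_single i (fun x _ hx => by simp [hx]) (by simp),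
      Finset.sum_eq_single i (fun x _ hx => by simp [hx]) (by simp)]
    simp [hθ]
  · rw [Finset.sum_eq_zero fun x _ => ?_, Finset.sum_eq_zero fun x _ => ?_, add_zero] <;>
    · by_cases hx : x = i
      · subst hx; simp [h]
      · simp [hx]

theorem std_combo {k j : ℕ} (c : Fin k → F) :
    ∑ i, c i • stdVec θ k j i = Fin.append (Fin.append c (fun i => c i * θ)) 0 := by
  funext x
  rw [Finset.sum_apply]
  induction x using Fin.addCases with
  | left x =>
    induction x using Fin.addCases with
    | left x => simp [stdVec, Pi.single_apply]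
    | right x => simp only [Pi.smul_apply, stdVec, Fin.append_left, Fin.append_right]; simp [Pi.single_apply]
  | right x => simp [stdVec]

/-- The standard frame. -/
def stdFrame (k j : ℕ) : Frame (k + k + j) F q k :=
  ⟨stdVec θ k j, Fintype.linearIndependent_iff.2 fun c hc i => by
    rw [std_combo] at hc
    simpa using congrFun hc (Fin.castAdd j (Fin.castAdd k i)),
    fun i l => std_orth K θ hθ i l⟩

include K hθ in
theorem card_std_ext (k j : ℕ) :
    Nat.card (Ext (stdFrame K θ hθ k j)) = q ^ (2 * k) * (count K j 0 - 1) := by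
  classical
  cases nonempty_fintype F
  let mk : (Fin k → F) × {w : Fin j → F // ∑ i, w i * K.bar (w i) = 0 ∧ w ≠ 0} →
      ↥(Ext (stdFrame K θ hθ k j)) := fun p =>
    ⟨Fin.append (Fin.append p.1 (fun i => p.1 i * θ)) p.2.1, fun hm => by
      rw [show Set.range (stdFrame K θ hθ k j).1 = Set.range (stdVec θ k j) from rfl,
        Submodule.mem_span_range_iff_exists_fun] at hm
      obtain ⟨c, hc⟩ := hm
      rw [std_combo] at hc
      exact p.2.2.2 (funext fun i => by simpa using (congrFun hc (Fin.natAdd (k + k) i)).symm), by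
      rw [herm_append K, p.2.2.1, add_zero, ← Finset.sum_add_distrib]
      refine Finset.sum_eq_zero fun i _ => ?_
      rw [map_mul]
      linear_combination (p.1 i * K.bar (p.1 i)) * hθ, fun l => by
      show hermForm (k + k + j) F q _ (stdVec θ k j l) = 0
      rw [stdVec, herm_append K]
      rw [Finset.sum_eq_single l (fun x _ hx => by simp [hx]) (by simp),
        Finset.sum_eq_single l (fun x _ hx => by simp [hx]) (by simp)]
      simp only [Pi.single_eq_same, map_one, mul_one, Pi.zero_apply, map_zero, mul_zero,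
        Finset.sum_const_zero, add_zero]
      linear_combination p.1 l * hθ⟩
  have hbij : Function.Bijective mk := by
    constructor
    · intro p p' h
      have h' := congrArg Subtype.val h
      refine Prod.ext (funext fun i => ?_) (Subtype.ext (funext fun i => ?_))
      · simpa [mk] using congrFun h' (Fin.castAdd j (Fin.castAdd k i))
      · simpa [mk] using congrFun h' (Fin.natAdd (k + k) i)
    · rintro ⟨v, hv1, hv2, hv3⟩
      have hv : v = Fin.append (Fin.append (fun i => v (Fin.castAdd j (Fin.castAdd k i)))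
          (fun i => v (Fin.castAdd j (Fin.natAdd k i)))) (fun i => v (Fin.natAdd (k + k) i)) := by
        funext x
        induction x using Fin.addCases with
        | left x =>
          induction x using Fin.addCases <;> simp only [Fin.append_left, Fin.append_right]
        | right x => simp only [Fin.append_right]
      have hc : ∀ i, v (Fin.castAdd j (Fin.natAdd k i)) = v (Fin.castAdd j (Fin.castAdd k i)) * θ := by
        intro l
        have h := hv3 l
        change hermForm (k + k + j) F q v (stdVec θ k j l) = 0 at h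
        rw [hv, stdVec, herm_append K,
          Finset.sum_eq_single l (fun x _ hx => by simp [hx]) (by simp),
          Finset.sum_eq_single l (fun x _ hx => by simp [hx]) (by simp)] at h
        simp only [Pi.single_eq_same, map_one, mul_one, Pi.zero_apply, map_zero, mul_zero,
          Finset.sum_const_zero, add_zero] at h
        linear_combination (-θ) * h + v (Fin.castAdd j (Fin.natAdd k l)) * hθ
      have hv' : v = Fin.append (Fin.append (fun i => v (Fin.castAdd j (Fin.castAdd k i)))
          (fun i => v (Fin.castAdd j (Fin.castAdd k i)) * θ)) (fun i => v (Fin.natAdd (k + k) i)) := by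
        conv_lhs => rw [hv]
        simp only [hc]
      have hnorm : ∑ i, v (Fin.natAdd (k + k) i) * K.bar (v (Fin.natAdd (k + k) i)) = 0 := by
        rw [hv', herm_append K, ← Finset.sum_add_distrib, Finset.sum_eq_zero, zero_add] at hv2
        · exact hv2
        · intro i _
          rw [map_mul]
          linear_combination (v (Fin.castAdd j (Fin.castAdd k i)) *
            K.bar (v (Fin.castAdd j (Fin.castAdd k i)))) * hθ
      refine ⟨(fun i => v (Fin.castAdd j (Fin.castAdd k i)),
        ⟨fun i => v (Fin.natAdd (k + k) i), hnorm, fun h0 => hv1 ?_⟩), Subtype.ext hv'.symm⟩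
      rw [show Set.range (stdFrame K θ hθ k j).1 = Set.range (stdVec θ k j) from rfl,
        Submodule.mem_span_range_iff_exists_fun]
      refine ⟨fun i => v (Fin.castAdd j (Fin.castAdd k i)), ?_⟩
      rw [std_combo]
      conv_rhs => rw [hv', h0]
  rw [← Nat.card_congr (Equiv.ofBijective mk hbij), Nat.card_prod, Nat.card_fun, Nat.card_fin,
    K.card, ← pow_mul]
  congr 1
  have hsplit : count K j 0 =
      Nat.card {w : Fin j → F // ∑ i, w i * K.bar (w i) = 0 ∧ w ≠ 0} + 1 := by
    rw [count, Nat.card_eq_fintype_card, Nat.card_eq_fintype_card, Fintype.card_subtype,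
      Fintype.card_subtype, ← Finset.card_erase_add_one (a := (0 : Fin j → F))
        (s := Finset.univ.filter fun w : Fin j → F => ∑ i, w i * K.bar (w i) = 0) (by simp)]
    congr 2
    ext w
    simp [and_comm]
  omega

end std

include K in
theorem exists_frame {k : ℕ} (hk : 2 * k ≤ n) :
    ∃ f : Frame n F q k, Nat.card (Ext f) = q ^ (2 * k) * (count K (n - 2 * k) 0 - 1) := by
  obtain ⟨θ, hθ⟩ := exists_norm_neg_one K
  obtain ⟨j, rfl⟩ : ∃ j, n = k + k + j := ⟨n - 2 * k, by omega⟩
  exact ⟨stdFrame K θ hθ k j, by rw [card_std_ext, show k + k + j - 2 * k = j by omega]⟩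

include K in
theorem card_frame : ∀ {k : ℕ}, 2 * k ≤ n →
    Nat.card (Frame n F q k) * (q ^ (k * (2 * n - 3 * k)) * guOrder q (n - 2 * k)) = guOrder q n := by
  intro k
  induction k with
  | zero =>
    intro _
    have h0 : Nat.card (Frame n F q 0) = 1 :=
      Nat.card_eq_one_iff_unique.2 ⟨⟨fun a b => Subtype.ext (funext fun i => Fin.elim0 i)⟩,
        ⟨(⟨(Fin.elim0 : Fin 0 → Fin n → F), linearIndependent_empty_type,
          fun i => Fin.elim0 i⟩ : Frame n F q 0)⟩⟩
    rw [h0]
    simp
  | succ k ih =>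
    intro hk
    obtain ⟨f, hf⟩ := exists_frame K (n := n) (k := k) (by omega)
    obtain ⟨t, ht⟩ : ∃ t, n = 2 * (k + 1) + t := ⟨n - 2 * (k + 1), by omega⟩
    have h1 : n - 2 * k = t + 2 := by omega
    have h2 : n - 2 * (k + 1) = t := by omega
    rw [← ih (by omega), card_frame_succ K f, hf, h1, h2, guOrder_add_two K t]
    have hexp : 2 * k + (k + 1) * (2 * n - 3 * (k + 1)) = k * (2 * n - 3 * k) + (2 * t + 1) := by
      obtain ⟨a, ha⟩ : ∃ a, 2 * n = 3 * (k + 1) + a := ⟨2 * n - 3 * (k + 1), by omega⟩
      have e1 : 2 * n - 3 * (k + 1) = a := by omega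
      have e2 : 2 * n - 3 * k = a + 3 := by omega
      rw [e1, e2]
      have : a = 2 * t + 1 + k := by omega
      rw [this]; ring
    have hq : q ^ (2 * k) * q ^ ((k + 1) * (2 * n - 3 * (k + 1))) =
        q ^ (k * (2 * n - 3 * k)) * q ^ (2 * t + 1) := by rw [← pow_add, ← pow_add, hexp]
    calc Nat.card (Frame n F q k) * (q ^ (2 * k) * (count K (t + 2) 0 - 1)) *
          (q ^ ((k + 1) * (2 * n - 3 * (k + 1))) * guOrder q t)
        = Nat.card (Frame n F q k) * ((q ^ (2 * k) * q ^ ((k + 1) * (2 * n - 3 * (k + 1)))) *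
            (count K (t + 2) 0 - 1) * guOrder q t) := by ring
      _ = _ := by rw [hq]; ring

/-- The stabiliser of a subspace in the unitary group. -/
def stabGU (W : Submodule F (Fin n → F)) : Subgroup (GU n F q) :=
  (Cfsg.stabilizing (Units.coeHom (Matrix (Fin n) (Fin n) F)) (W : Set (Fin n → F))).subgroupOf
    (GU n F q)

theorem mem_stabGU {W : Submodule F (Fin n → F)} {g : GU n F q} :
    g ∈ stabGU W ↔ ∀ v, v ∈ W ↔ gap g v ∈ W := Iff.rfl

theorem mem_stabGU_of_le {W : Submodule F (Fin n → F)} {g : GU n F q}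
    (h : ∀ v ∈ W, gap g v ∈ W) : g ∈ stabGU W := by
  refine mem_stabGU.2 fun v => ⟨h v, fun hv => ?_⟩
  have heq : Submodule.map (gapL g) W = W :=
    Submodule.eq_of_le_of_finrank_eq (Submodule.map_le_iff_le_comap.2 h)
      ((Submodule.equivMapOfInjective (gapL g) (gap_injective g) W).finrank_eq.symm)
  rw [← heq] at hv
  obtain ⟨w, hw, e⟩ := Submodule.mem_map.1 hv
  exact gap_injective g e ▸ hw

include K in
theorem card_stabGU {k : ℕ} (hk : 2 * k ≤ n) (W : Submodule F (Fin n → F))
    (hWk : Module.finrank F W = k) (hW : ∀ u ∈ W, ∀ v ∈ W, hermForm n F q u v = 0) :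
    Nat.card (stabGU (q := q) W) = q ^ (k * (2 * n - 3 * k)) *
      (∏ i : Fin k, ((q ^ 2) ^ k - (q ^ 2) ^ (i : ℕ))) * guOrder q (n - 2 * k) := by
  classical
  cases nonempty_fintype F
  let b := Module.finBasisOfFinrankEq F W hWk
  let X := {f : Frame n F q k // ∀ i, f.1 i ∈ W}
  let e : X ≃ {f : Fin k → W // LinearIndependent F f} :=
    { toFun := fun f => ⟨fun i => ⟨f.1.1 i, f.2 i⟩, LinearIndependent.of_comp W.subtype f.1.2.1⟩
      invFun := fun f => ⟨⟨fun i => (f.1 i : Fin n → F),
          f.2.map' W.subtype W.ker_subtype, fun i j => hW _ (f.1 i).2 _ (f.1 j).2⟩, fun i => (f.1 i).2⟩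
      left_inv := fun _ => rfl
      right_inv := fun _ => rfl }
  have hX : Nat.card X = ∏ i : Fin k, ((q ^ 2) ^ k - (q ^ 2) ^ (i : ℕ)) := by
    rw [Nat.card_congr e, card_linearIndependent (le_of_eq hWk.symm)]
    simp only [hWk, ← Nat.card_eq_fintype_card, K.card]
  let x₀ : X := e.symm ⟨b, b.linearIndependent⟩
  let act : MulAction (stabGU (q := q) W) X :=
    { smul := fun g f => ⟨(g : GU n F q) • f.1, fun i => (mem_stabGU.1 g.2 _).1 (f.2 i)⟩
      one_smul := fun f => Subtype.ext (one_smul (GU n F q) f.1)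
      mul_smul := fun g h f => Subtype.ext (mul_smul (g : GU n F q) (h : GU n F q) f.1) }
  have hspan : ∀ f : X, Submodule.span F (Set.range f.1.1) = W := fun f =>
    Submodule.eq_of_le_of_finrank_eq (Submodule.span_le.2 (by rintro _ ⟨i, rfl⟩; exact f.2 i))
      (by rw [finrank_span_eq_card f.1.2.1, Fintype.card_fin, hWk])
  have hmap : ∀ (f f' : X) (g : GU n F q), g • f.1 = f'.1 → g ∈ stabGU W := fun f f' g hg => by
    refine mem_stabGU_of_le fun v hv => ?_
    rw [← hspan f, Submodule.mem_span_range_iff_exists_fun] at hv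
    obtain ⟨c, rfl⟩ := hv
    rw [← gapL_apply, map_sum]
    refine Submodule.sum_mem _ fun i _ => ?_
    rw [map_smul, gapL_apply, ← smul_apply, hg]
    exact Submodule.smul_mem _ _ (f'.2 i)
  have htr : MulAction.IsPretransitive (stabGU (q := q) W) X := ⟨fun f f' => by
    obtain ⟨g, hg⟩ := exists_move_frame K f.1 f'.1
    have hg' : g • f.1 = f'.1 := Subtype.ext (funext hg)
    exact ⟨⟨g, hmap f f' g hg'⟩, Subtype.ext hg'⟩⟩
  have hst : Nat.card (MulAction.stabilizer (stabGU (q := q) W) x₀) =
      Nat.card (MulAction.stabilizer (GU n F q) x₀.1) :=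
    Nat.card_congr
      { toFun := fun g => ⟨(g : stabGU (q := q) W), congrArg Subtype.val g.2⟩
        invFun := fun g => ⟨⟨(g : GU n F q), hmap x₀ x₀ g g.2⟩, Subtype.ext g.2⟩
        left_inv := fun _ => rfl
        right_inv := fun _ => rfl }
  have h1 : Nat.card (stabGU (q := q) W) =
      Nat.card X * Nat.card (MulAction.stabilizer (GU n F q) x₀.1) := by
    rw [← hst, ← MulAction.index_stabilizer_of_transitive (stabGU (q := q) W) x₀,
      Subgroup.index_mul_card]
  have h2 := card_frame_mul K x₀.1
  have h3 := card_frame K (n := n) hk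
  rw [show Nat.card (GU n F q) = guOrder q n from card_GU K, ← h3] at h2
  have hpos : 0 < Nat.card (Frame n F q k) := by
    have : Nonempty (Frame n F q k) := ⟨x₀.1⟩
    exact Nat.card_pos
  rw [h1, hX, Nat.eq_of_mul_eq_mul_left hpos h2]
  ring

include K in
theorem det_surjective (hn : 1 ≤ n) (W : Submodule F (Fin n → F))
    (hW : ∀ u ∈ W, ∀ v ∈ W, hermForm n F q u v = 0) (lam : Unitary.normOne K) :
    ∃ g ∈ stabGU (q := q) W, Unitary.det1 n K g = lam := by
  by_cases hW0 : W = ⊥
  · refine ⟨Unitary.diag1 K hn lam, mem_stabGU_of_le fun v hv => ?_, Unitary.det1_diag1 K hn lam⟩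
    subst hW0
    rw [(Submodule.mem_bot F).1 hv, ← gapL_apply, map_zero]
    exact zero_mem _
  obtain ⟨w, hw, hw0⟩ := Submodule.exists_mem_ne_zero_of_ne_bot hW0
  -- a scalar with prescribed ratio
  obtain ⟨a, ha0, ha⟩ : ∃ a : F, a ≠ 0 ∧ a = (lam : Fˣ) * K.bar a := by
    obtain ⟨c, hc⟩ : ∃ c : F, c + (lam : Fˣ) * K.bar c ≠ 0 := by
      by_contra hall
      push Not at hall
      have h1 := hall 1
      rw [map_one, mul_one] at h1
      obtain ⟨y, hy⟩ := K.exists_moved
      exact hy (by linear_combination K.bar y * h1 - hall y)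
    refine ⟨c + (lam : Fˣ) * K.bar c, hc, ?_⟩
    have h := (Unitary.mem_normOne K).1 lam.2
    rw [map_add, map_mul, K.bar_bar]
    linear_combination (-c) * h
  have hba : K.bar a ≠ 0 := (map_ne_zero K.bar).2 ha0
  obtain ⟨u₀, hu₀⟩ : ∃ u, hermForm n F q w u ≠ 0 := by
    by_contra hall
    push Not at hall
    exact hw0 (h_nondeg K hall)
  obtain ⟨u₁, hu₁⟩ : ∃ u₁, hermForm n F q u₁ w = 1 :=
    ⟨(hermForm n F q u₀ w)⁻¹ • u₀,
      by rw [h_smul_left K, inv_mul_cancel₀ (h_ne_zero_symm K hu₀)]⟩
  obtain ⟨t, ht⟩ := (Unitary.space (n := n) K).tr u₁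
  have hww := hW w hw w hw
  obtain ⟨u, huu, huw⟩ : ∃ u, hermForm n F q u u = 0 ∧ hermForm n F q u w = 1 := by
    refine ⟨u₁ + t • w, ?_, ?_⟩
    · change hermForm n F q u₁ u₁ + 1 * t + K.bar t = 0 at ht
      rw [h_add_left K, h_add_right K, h_add_right K, h_smul_left K, h_smul_right K, h_smul_right K,
        h_smul_left K, hu₁, h_swap K u₁ w, hu₁, map_one, hww]
      linear_combination ht
    · rw [h_add_left K, h_smul_left K, hww, hu₁, mul_zero, add_zero]
  have hwu : hermForm n F q w u = 1 := by rw [h_swap K u w, huw, map_one]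
  -- the isometry
  let R : Matrix (Fin 2) (Fin n) F :=
    Matrix.of fun i x => if i = 0 then (a - 1) * K.bar (u x) else ((K.bar a)⁻¹ - 1) * K.bar (w x)
  let C : Matrix (Fin n) (Fin 2) F := Matrix.of fun x i => if i = 0 then w x else u x
  have hR : ∀ v, R *ᵥ v = ![(a - 1) * hermForm n F q v u,
      ((K.bar a)⁻¹ - 1) * hermForm n F q v w] := fun v => by
    funext i
    fin_cases i <;>
    · simp only [R, Matrix.mulVec, dotProduct, Matrix.of_apply, Unitary.herm_apply K, Finset.mul_sum]
      simp [mul_comm, mul_left_comm, mul_assoc]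
  have hC : ∀ c : Fin 2 → F, C *ᵥ c = c 0 • w + c 1 • u := fun c => by
    funext x
    simp [C, Matrix.mulVec, dotProduct, Fin.sum_univ_two, mul_comm]
  let M : Matrix (Fin n) (Fin n) F := 1 + C * R
  have hM : ∀ v, M *ᵥ v = v + ((a - 1) * hermForm n F q v u) • w +
      (((K.bar a)⁻¹ - 1) * hermForm n F q v w) • u := fun v => by
    rw [Matrix.add_mulVec, Matrix.one_mulVec, ← Matrix.mulVec_mulVec, hR, hC]
    simp [add_assoc]
  have hiso : ∀ x y, hermForm n F q (M *ᵥ x) (M *ᵥ y) = hermForm n F q x y := fun x y => by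
    rw [hM, hM]
    simp only [h_add_left K, h_add_right K, h_smul_left K, h_smul_right K, hww, huu, huw, hwu,
      map_mul, map_sub, map_inv₀, map_one, K.bar_bar]
    rw [h_swap K y u, h_swap K y w]
    field_simp
    ring
  have hdet : M.det = (lam : Fˣ) := by
    rw [Matrix.det_one_add_mul_comm, Matrix.det_fin_two]
    have hRC : ∀ i l, (R * C) i l = (R *ᵥ (if l = 0 then w else u)) i := fun i l => by
      rw [Matrix.mul_apply, Matrix.mulVec, dotProduct]
      refine Finset.sum_congr rfl fun x _ => ?_
      by_cases hl : l = 0 <;> simp [C, hl]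
    simp only [Matrix.add_apply, hRC, hR, Matrix.one_apply_eq, ne_eq, Fin.reduceEq, not_false_eq_true,
      Matrix.one_apply_ne, ite_true, ite_false, Matrix.cons_val_zero, Matrix.cons_val_one, hwu, huw,
      hww, huu]
    field_simp
    linear_combination ha
  obtain ⟨g, hg⟩ := exists_GU (q := q) M.mulVecLin hiso fun x y h => by
    have hu : IsUnit M := (Matrix.isUnit_iff_isUnit_det _).2 (by rw [hdet]; exact (lam : Fˣ).isUnit)
    exact Matrix.mulVec_injective_iff_isUnit.2 hu h
  refine ⟨g, mem_stabGU_of_le fun v hv => ?_, ?_⟩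
  · rw [hg, Matrix.mulVecLin_apply, hM, hW v hv w hw, mul_zero, zero_smul, add_zero]
    exact add_mem hv (Submodule.smul_mem _ _ hw)
  · refine Subtype.ext (Units.ext ?_)
    show (((g : GL (Fin n) F)) : Matrix (Fin n) (Fin n) F).det = _
    rw [show (((g : GL (Fin n) F)) : Matrix (Fin n) (Fin n) F) = M from
      Matrix.ext_of_mulVec_single fun i => hg _, hdet]

include K in
theorem card_stabilizer (hn : 1 ≤ n) {k : ℕ} (hk : 2 * k ≤ n) (W : Submodule F (Fin n → F))
    (hWk : Module.finrank F W = k) (hW : ∀ u ∈ W, ∀ v ∈ W, hermForm n F q u v = 0) :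
    (q + 1) * Nat.card ↥((Cfsg.stabilizing (Cfsg.slToMat n F) (W : Set (Fin n → F))).subgroupOf
      (Cfsg.SU n F q)) = q ^ (k * (2 * n - 3 * k)) *
        (∏ i : Fin k, ((q ^ 2) ^ k - (q ^ 2) ^ (i : ℕ))) * guOrder q (n - 2 * k) := by
  rw [← card_stabGU K hk W hWk hW]
  let d := (Unitary.det1 n K).comp (stabGU (q := q) W).subtype
  have hd : Function.Surjective d := fun lam => by
    obtain ⟨g, hg, e⟩ := det_surjective K hn W hW lam
    exact ⟨⟨g, hg⟩, e⟩
  rw [Subgroup.card_eq_card_quotient_mul_card_subgroup d.ker,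
    Nat.card_congr (QuotientGroup.quotientKerEquivOfSurjective d hd).toEquiv,
    Unitary.card_normOne K]
  congr 1
  exact Nat.card_congr
    { toFun := fun s => ⟨⟨⟨SpecialLinearGroup.toGL s.1.1, fun u v => s.1.2 u v⟩, s.2⟩,
        Subtype.ext (Units.ext s.1.1.2)⟩
      invFun := fun g => ⟨⟨⟨((g : stabGU (q := q) W) : GU n F q).1.1,
          congrArg (fun c : Unitary.normOne K => ((c : Fˣ) : F)) g.2⟩,
        fun u v => ((g : stabGU (q := q) W) : GU n F q).2 u v⟩, (g : stabGU (q := q) W).2⟩
      left_inv := fun s => rfl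
      right_inv := fun g => Subtype.ext (Subtype.ext (Subtype.ext (Units.ext rfl))) }

end CfsgLib.SUParabolic
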